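import Cfsg.Agent.Lib.RigidGraph.Co2.Nodes.Part0
import Cfsg.Agent.Lib.RigidGraph.Co2.Nodes.Part1
import Cfsg.Agent.Lib.RigidGraph.Co2.Nodes.Part2
import Cfsg.Agent.Lib.RigidGraph.Co2.Nodes.Part3
import Cfsg.Agent.Lib.RigidGraph.Co2.Nodes.Part4
import Cfsg.Agent.Lib.RigidGraph.Co2.Nodes.Part5
import Cfsg.Agent.Lib.RigidGraph.Co2.Nodes.Part6
import Cfsg.Agent.Lib.RigidGraph.Co2.Nodes.Part7
import Cfsg.Agent.Lib.RigidGraph.Co2.Nodes.Part8
import Cfsg.Agent.Lib.RigidGraph.Co2.Nodes.Part9
import Cfsg.Agent.Lib.RigidGraph.Co2.Nodes.Part10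
import Cfsg.Agent.Lib.RigidGraph.Co2.Nodes.Part11
import Cfsg.Agent.Lib.RigidGraph.Co2.Nodes.Part12
import Cfsg.Agent.Lib.RigidGraph.Co2.Nodes.Part13

/-! All the nodes. -/

set_option autoImplicit false
set_option maxRecDepth 100000

namespace Cfsg.Agent.RigidGraph.Co2

/-- all nodes -/
noncomputable def nodes : List Elt := [nodes0, nodes1, nodes2, nodes3, nodes4, nodes5, nodes6, nodes7, nodes8, nodes9, nodes10, nodes11, nodes12, nodes13].flatten

/-- the program -/
def prog : List (ℕ × ℕ) := [(0, 0), (4, 4), (6, 6), (6, 0), (4, 0), (8, 12), (2, 8), (2, 8), (16, 18), (2, 7), (20, 22), (8, 24), (2, 14), (2, 8), (28, 30), (2, 10), (32, 34), (10, 36), (3, 38), (1, 40), (3, 42), (7, 44), (2, 11), (2, 4), (48, 50), (2, 15), (52, 54), (2, 0), (56, 58), (11, 60), (1, 62), (3, 64), (11, 66), (3, 68), (5, 70), (26, 72), (46, 74), (26, 76), (46, 78), (46, 80), (27, 82), (27, 84), (2, 7), (2, 14), (88, 90), (2, 10), (92, 94), (2, 11), (96, 98), (2, 6), (100, 102), (11, 104), (1, 106), (3, 108), (9,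 110), (47, 112), (27, 114), (27, 116), (46, 118), (26, 120), (26, 122), (2, 11), (2, 14), (126, 128), (2, 14), (130, 132), (14, 134), (3, 136), (4, 138), (26, 140), (125, 142), (26, 144), (26, 146), (87, 148), (124, 150), (86, 152), (86, 154), (124, 156), (124, 158), (2, 11), (2, 14), (162, 164), (2, 5), (166, 168), (2, 5), (170, 172), (15, 174), (3, 176), (6, 178), (3, 180), (9, 182), (46, 184), (87, 186), (125, 188), (26, 190), (124, 192), (161, 194), (87, 196), (87, 198), (87, 200), (2, 11), (2, 6), (204, 206), (2, 6), (208, 210), (2, 9), (212, 214), (11, 216), (3, 218), (14, 220), (3, 222), (9, 224), (47, 226), (202, 228), (125, 230), (27, 232), (202, 234), (161, 236), (125, 238), (202, 240), (160, 242), (202, 244), (202, 246), (160, 248), (203, 250), (160, 252), (2, 11), (2, 8), (256, 258), (2, 14), (260, 262), (2, 8), (264, 266), (9, 268), (3, 270), (8, 272), (3, 274), (14, 276), (125, 278), (254, 280), (46, 282), (27, 284), (87, 286), (125, 288), (87, 290), (125, 292), (255, 294),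 (160, 296), (254, 298), (160, 300), (2, 7), (2, 5), (304, 306), (2, 8), (308, 310), (2, 11), (312, 314), (1, 316), (3, 318), (7, 320), (87, 322), (202, 324), (46, 326), (303, 328), (87, 330), (303, 332), (161, 334), (254, 336), (161, 338), (2, 6), (2, 0), (342, 344), (2, 1), (346, 348), (2, 10), (350, 352), (5, 354), (3, 356), (14, 358), (3, 360), (7, 362), (202, 364), (161, 366), (46, 368), (86, 370), (254, 372), (125, 374), (87, 376), (161, 378), (255, 380), (203, 382), (161, 384), (4, 2), (388, 14), (390, 2), (392, 4), (394, 0), (396, 125), (398, 303), (400, 46), (402, 26), (404, 340), (406, 160), (408, 86), (410, 86), (412, 302), (414, 202), (416, 161), (418, 341), (420, 302), (422, 254)]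

end Cfsg.Agent.RigidGraph.Co2
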