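import Cfsg.Agent.Lib.RigidGraph.Co2.Nodes.All
import Cfsg.Agent.Lib.RigidGraph.Basic

/-! Node checks. -/

set_option autoImplicit false
set_option maxRecDepth 100000
set_option Elab.async false

namespace Cfsg.Agent.RigidGraph.Co2

theorem mul2_ok : ((List.range' 48 24).all fun j => Nat.blt ((prog.getD j (0, 0)).1 / 2) (j + 2) && Nat.blt ((prog.getD j (0, 0)).2 / 2) (j + 2) &&
    mulOK 2300 (nodes.getD (j + 2) (0, 0)) (getN nodes (prog.getD j (0, 0)).1) (getN nodes (prog.getD j (0, 0)).2)) = true := by decide +kernel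

end Cfsg.Agent.RigidGraph.Co2
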