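import Cfsg.Agent.Lib.RigidGraph.Co2.Nodes.Part4
import Cfsg.Agent.Lib.RigidGraph.Basic

/-! Node checks. -/

set_option autoImplicit false
set_option maxRecDepth 100000
set_option Elab.async false

namespace Cfsg.Agent.RigidGraph.Co2

theorem perm4_ok : nodes4.all (permOK 2300) = true := by decide +kernel

end Cfsg.Agent.RigidGraph.Co2
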